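import Mathlib
/-!
A degree bound: `c - x ^ n` is not algebraic of bounded degree in `x` for large `n`.
-/
set_option autoImplicit false
set_option linter.style.haveILetI false
universe u
open Polynomial

namespace Groth.Agent.PowPert

variable (K : Type u) {L : Type u} [Field K] [Field L] [Algebra K L]

/-- A polynomial of degree at most `M` in `x` with coefficients in `K`. -/
def Small (x : L) (M : ℕ) (v : L) : Prop := ∃ f : K[X], f.natDegree ≤ M ∧ v = aeval x f

theorem exists_valuationSubring {x : L} (hx : Transcendental K x) :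
    ∃ V : ValuationSubring L, 1 < V.valuation x ∧ ∀ c : K, c ≠ 0 → V.valuation (algebraMap K L c) = 1 := by
  have hx' : Transcendental K x⁻¹ := fun h => hx (IsAlgebraic.inv_iff.1 h)
  have hinj := transcendental_iff_injective.1 hx'
  let φ : K[X] →+* L := (aeval x⁻¹).toRingHom
  have hI : (Ideal.span {(Polynomial.X : K[X])}).map φ.rangeRestrict ≠ ⊤ := by
    intro h
    rw [Ideal.eq_top_iff_one, Ideal.mem_map_iff_of_surjective _ φ.rangeRestrict_surjective] at h
    obtain ⟨f, hf, hf1⟩ := h
    have h1 : f = 1 := hinj ((congrArg Subtype.val hf1).trans (map_one φ).symm)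
    obtain ⟨g, rfl⟩ := Ideal.mem_span_singleton.1 hf
    exact not_isUnit_X (IsUnit.of_mul_eq_one _ h1)
  obtain ⟨V, hAV, hV⟩ := Ideal.image_subset_nonunits_valuationSubring _ hI
  have hc : ∀ c : K, V.valuation (algebraMap K L c) ≤ 1 := fun c =>
    (V.valuation_le_one_iff _).2 (hAV ⟨Polynomial.C c, by simp [φ]⟩)
  refine ⟨V, ?_, fun c hc0 => le_antisymm (hc c) ?_⟩
  · have h : V.valuation x⁻¹ < 1 := (ValuationSubring.mem_nonunits_iff V).1
      (hV ⟨φ.rangeRestrict Polynomial.X, Ideal.mem_map_of_mem _ (Ideal.mem_span_singleton_self _),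
        (aeval_X x⁻¹ : φ Polynomial.X = x⁻¹)⟩)
    have hx0 : x ≠ 0 := fun h0 => hx (h0 ▸ isAlgebraic_zero)
    rw [map_inv₀] at h
    exact (inv_lt_one₀ (zero_lt_iff.2 ((Valuation.ne_zero_iff _).2 hx0))).1 h
  · have h := hc c⁻¹
    rw [map_inv₀, map_inv₀] at h
    exact (inv_le_one₀ (zero_lt_iff.2 ((Valuation.ne_zero_iff _).2 fun h0 =>
      hc0 ((algebraMap K L).injective (h0.trans (map_zero _).symm))))).1 h

theorem valuation_aeval {x : L} (V : ValuationSubring L) (hx : 1 < V.valuation x)
    (hc : ∀ c : K, c ≠ 0 → V.valuation (algebraMap K L c) = 1) (f : K[X]) (hf : f ≠ 0) :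
    V.valuation (aeval x f) = V.valuation x ^ f.natDegree := by
  rw [aeval_eq_sum_range]
  have hlead : V.valuation (f.coeff f.natDegree • x ^ f.natDegree) = V.valuation x ^ f.natDegree := by
    rw [Algebra.smul_def, map_mul, map_pow, hc _ (by simpa using hf), one_mul]
  rw [Finset.sum_range_succ, Valuation.map_add_eq_of_lt_right, hlead]
  rw [hlead]
  refine Valuation.map_sum_lt _ (pow_pos (lt_trans zero_lt_one hx) _).ne' fun i hi => ?_
  rw [Algebra.smul_def, map_mul, map_pow]
  by_cases h0 : f.coeff i = 0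
  · rw [h0, map_zero, map_zero, zero_mul]
    exact pow_pos (lt_trans zero_lt_one hx) _
  · rw [hc _ h0, one_mul]
    exact pow_lt_pow_right₀ hx (Finset.mem_range.1 hi)

/-- The degree bound. -/
theorem not_eq_of_large {x : L} (hx : Transcendental K x) {c : K} {g β : L} (hg : g ≠ 0) {M m n : ℕ}
    (G Q : L[X]) (hG : G.Monic) (hQ : Q.Monic) (hgr : G.eval g = 0) (hβ : Q.eval β = 0)
    (hGs : ∀ i, Small K x M (G.coeff i)) (hQs : ∀ i, Small K x M (Q.coeff i))
    (hn : M + m * M < n) : g ^ m * (algebraMap K L c - x ^ n) ≠ β := by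
  obtain ⟨V, hxV, hcV⟩ := exists_valuationSubring K hx
  let v := V.valuation
  set X := v x with hX
  have hXpos : 0 < X := lt_trans zero_lt_one hxV
  have hsmall : ∀ w, Small K x M w → v w ≤ X ^ M := by
    rintro w ⟨f, hf, rfl⟩
    by_cases h0 : f = 0
    · simp [h0]
    · rw [valuation_aeval K V hxV hcV f h0]
      exact pow_le_pow_right₀ hxV.le hf
  have hlow : ∀ w, Small K x M w → w ≠ 0 → 1 ≤ v w := by
    rintro w ⟨f, -, rfl⟩ hw
    rw [valuation_aeval K V hxV hcV f fun h0 => hw (by simp [h0])]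
    exact one_le_pow₀ hxV.le
  have hroot : v β ≤ X ^ M := by
    by_contra! h
    have h1 : 1 < v β := lt_of_le_of_lt (one_le_pow₀ hxV.le) h
    have hb : 0 < v β := lt_trans zero_lt_one h1
    have hs : Q.eval β = (∑ i ∈ Finset.range Q.natDegree, Q.coeff i * β ^ i) + β ^ Q.natDegree := by
      rw [eval_eq_sum_range, Finset.sum_range_succ, hQ.coeff_natDegree, one_mul]
    have hlt : v (∑ i ∈ Finset.range Q.natDegree, Q.coeff i * β ^ i) < v (β ^ Q.natDegree) := by
      rw [map_pow]
      refine Valuation.map_sum_lt _ (pow_pos hb _).ne' fun i hi => ?_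
      rw [map_mul, map_pow]
      calc v (Q.coeff i) * v β ^ i ≤ X ^ M * v β ^ i := mul_le_mul_left (hsmall _ (hQs i)) _
        _ < v β * v β ^ i := mul_lt_mul_of_pos_right h (pow_pos hb _)
        _ = v β ^ (i + 1) := (pow_succ' _ _).symm
        _ ≤ v β ^ Q.natDegree := pow_le_pow_right₀ h1.le (Finset.mem_range.1 hi)
    have := Valuation.map_add_eq_of_lt_right v hlt
    rw [← hs, hβ, map_zero, map_pow] at this
    exact (pow_pos hb _).ne this
  have hglow : 1 ≤ v g * X ^ M := by
    classical
    by_contra! h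
    have hvg : 0 < v g := zero_lt_iff.2 ((Valuation.ne_zero_iff _).2 hg)
    have h1 : v g ≤ 1 := le_trans (le_mul_of_one_le_right' (one_le_pow₀ hxV.le)) h.le
    have hne : G ≠ 0 := hG.ne_zero
    let j := G.natTrailingDegree
    have hj : G.coeff j ≠ 0 := mt trailingCoeff_eq_zero.1 hne
    have hjle : j ≤ G.natDegree := natTrailingDegree_le_natDegree G
    have hs : G.eval g = G.coeff j * g ^ j + ∑ i ∈ (Finset.range (G.natDegree + 1)).erase j, G.coeff i * g ^ i := by
      rw [eval_eq_sum_range, Finset.add_sum_erase _ (fun i => G.coeff i * g ^ i) (Finset.mem_range.2 (by omega))]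
    have hmain : v g ^ j ≤ v (G.coeff j * g ^ j) := by
      rw [map_mul, map_pow]
      exact le_mul_of_one_le_left' (hlow _ (hGs j) hj)
    have hlt : v (∑ i ∈ (Finset.range (G.natDegree + 1)).erase j, G.coeff i * g ^ i) < v (G.coeff j * g ^ j) := by
      refine lt_of_lt_of_le (Valuation.map_sum_lt _ (pow_pos hvg _).ne' fun i hi => ?_) hmain
      rw [map_mul, map_pow]
      by_cases h0 : G.coeff i = 0
      · rw [h0, map_zero, zero_mul]; exact pow_pos hvg _
      · have hij : j + 1 ≤ i := by
          have := Finset.ne_of_mem_erase hi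
          have := natTrailingDegree_le_of_ne_zero h0
          omega
        calc v (G.coeff i) * v g ^ i ≤ X ^ M * v g ^ (j + 1) :=
              mul_le_mul' (hsmall _ (hGs i)) (pow_le_pow_right_of_le_one' h1 hij)
          _ = (v g * X ^ M) * v g ^ j := by rw [pow_succ]; ac_rfl
          _ < 1 * v g ^ j := mul_lt_mul_of_pos_right h (pow_pos hvg _)
          _ = v g ^ j := one_mul _
    have := Valuation.map_add_eq_of_lt_left v hlt
    rw [← hs, hgr, map_zero] at this
    exact (lt_of_lt_of_le (pow_pos hvg _) hmain).ne this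
  intro heq
  have hcx : v (algebraMap K L c - x ^ n) = X ^ n := by
    rw [Valuation.map_sub_eq_of_lt_right, map_pow]
    rw [map_pow]
    refine lt_of_le_of_lt ?_ (one_lt_pow₀ hxV (by omega))
    by_cases h0 : c = 0
    · simp [h0]
    · exact (hcV c h0).le
  have h2 : X ^ n ≤ X ^ (M + m * M) := by
    calc X ^ n ≤ (v g * X ^ M) ^ m * X ^ n := le_mul_of_one_le_left' (one_le_pow₀ hglow)
      _ = v β * X ^ (m * M) := by
        rw [← heq, map_mul, map_pow, hcx, mul_pow, ← pow_mul, mul_comm M m, mul_right_comm]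
      _ ≤ X ^ M * X ^ (m * M) := mul_le_mul_left hroot _
      _ = X ^ (M + m * M) := (pow_add _ _ _).symm
  exact absurd h2 (not_le.2 (pow_lt_pow_right₀ hxV hn))

end Groth.Agent.PowPert
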