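import Groth.Agent.PowPert.Basic
import Groth.Agent.FlatDim.Points
import Groth.Agent.PruferDim.Basic
/-!
Fibre dimensions are stable under replacing a parameter by a high power plus a perturbation.
-/
set_option autoImplicit false
set_option linter.style.haveILetI false
set_option backward.isDefEq.respectTransparency false
universe u
open Polynomial PrimeSpectrum

namespace Groth.Agent.PowPert

open Unibranch

/-- The field core: with the relations at hand `x ^ n + b` stays transcendental. -/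
theorem transcendental_of_large {A L : Type u} [CommRing A] [IsDomain A] [Field L] [Algebra A L]
    (hAL : Function.Injective (algebraMap A L)) {e : ℕ} {x b g β : L} (t : ULift.{u} (Fin e) → L)
    (hind : AlgebraicIndependent A (fun o : Option (ULift.{u} (Fin e)) => o.elim x t))
    (G Q : L[X]) (hg : g ≠ 0) (hG : G.Monic) (hQ : Q.Monic) (hgr : G.eval g = 0) (hβr : Q.eval β = 0)
    {M m n : ℕ} (hβ : g ^ m * b = β)
    (hGs : ∀ i, ∃ f : (Algebra.adjoin A (Set.range t))[X], f.natDegree ≤ M ∧ G.coeff i = aeval x f)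
    (hQs : ∀ i, ∃ f : (Algebra.adjoin A (Set.range t))[X], f.natDegree ≤ M ∧ Q.coeff i = aeval x f)
    (hn : M + m * M < n) : Transcendental A (x ^ n + b) := by
  intro hz
  let B := Algebra.adjoin A (Set.range t)
  haveI : FaithfulSMul B L := (faithfulSMul_iff_algebraMap_injective B L).2 Subtype.val_injective
  let F := FractionRing B
  letI : Algebra F L := FractionRing.liftAlgebra B L
  let K := algebraicClosure F L
  have hxB : Transcendental B x := by
    have h := hind.transcendental_adjoin (s := Set.range some) (i := none) (by simp)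
    have he : (fun o : Option (ULift.{u} (Fin e)) => o.elim x t) '' Set.range some = Set.range t := by
      rw [← Set.range_comp]; rfl
    rw [he] at h
    exact h
  have hxF : Transcendental F x := fun h => hxB ((IsFractionRing.isAlgebraic_iff B F L).2 h)
  have hxK : Transcendental K x := hxF.extendScalars _
  have hc : x ^ n + b ∈ K := by
    refine mem_algebraicClosure_iff.2 ((IsFractionRing.isAlgebraic_iff B F L).1 ?_)
    exact hz.extendScalars (S := B) (fun u v huv => hAL (congrArg (algebraMap B L) huv))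
  let ι : B →+* K := ((algebraMap F K).comp (algebraMap B F))
  have hι : (algebraMap K L).comp ι = algebraMap B L := by
    ext u
    show algebraMap F L (algebraMap B F u) = algebraMap B L u
    rw [← IsScalarTower.algebraMap_apply]
  have hsmall : ∀ w : L, (∃ f : B[X], f.natDegree ≤ M ∧ w = aeval x f) → Small K x M w := by
    rintro w ⟨f, hf, rfl⟩
    refine ⟨f.map ι, natDegree_map_le.trans hf, ?_⟩
    rw [aeval_def, aeval_def, eval₂_map, hι]
  refine not_eq_of_large K hxK (c := ⟨x ^ n + b, hc⟩) hg G Q hG hQ hgr hβr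
    (fun i => hsmall _ (hGs i)) (fun i => hsmall _ (hQs i)) hn ?_
  rw [← hβ]
  congr 1
  exact add_sub_cancel_left _ _

variable {R S : Type u} [CommRing R] [CommRing S] [Algebra R S]

/-- Coefficients of polynomials in `x` and `t` are small. -/
theorem exists_small_aeval {D : Type u} [CommRing D] {σ : Type u} (ψ : R →+* D) {A : Type u} [CommRing A]
    [Algebra A D] (θ : R →+* A) (hθ : (algebraMap A D).comp θ = ψ) (t : σ → D) (x : D)
    (φ : MvPolynomial σ R[X] →+* D) (hC : ∀ c : R, φ (MvPolynomial.C (Polynomial.C c)) = ψ c)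
    (hX : φ (MvPolynomial.C Polynomial.X) = x) (ht : ∀ i, φ (MvPolynomial.X i) = t i)
    (p : MvPolynomial σ R[X]) {M : ℕ} (hM : ∀ s, (p.coeff s).natDegree ≤ M) :
    ∃ f : (Algebra.adjoin A (Set.range t))[X], f.natDegree ≤ M ∧ φ p = aeval x f := by
  classical
  let B := Algebra.adjoin A (Set.range t)
  let τ : σ → B := fun i => ⟨t i, Algebra.subset_adjoin ⟨i, rfl⟩⟩
  refine ⟨∑ s ∈ p.support, Polynomial.C (s.prod fun i k => τ i ^ k) * (p.coeff s).map ((algebraMap A B).comp θ),
    (natDegree_sum_le_of_forall_le _ _ fun s _ => (natDegree_C_mul_le _ _).trans (natDegree_map_le.trans (hM s))), ?_⟩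
  conv_lhs => rw [p.as_sum, map_sum]
  rw [map_sum]
  refine Finset.sum_congr rfl fun s _ => ?_
  rw [MvPolynomial.monomial_eq, map_mul, map_mul, aeval_C, mul_comm]
  congr 1
  · rw [Finsupp.prod, Finsupp.prod, map_prod, map_prod]
    refine Finset.prod_congr rfl fun i _ => ?_
    rw [map_pow, map_pow, ht]
    rfl
  · have h : φ.comp MvPolynomial.C = ((aeval x : B[X] →ₐ[B] D).toRingHom).comp
        (Polynomial.mapRingHom ((algebraMap A B).comp θ)) := by
      refine Polynomial.ringHom_ext (fun c => ?_) ?_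
      · simp only [RingHom.comp_apply, hC, Polynomial.coe_mapRingHom, Polynomial.map_C, AlgHom.toRingHom_eq_coe,
          RingHom.coe_coe, aeval_C]
        rw [← hθ]
        rfl
      · simp [hX]
    exact congr($h (p.coeff s))

theorem rdim_polynomial_le_one (P : Ideal R[X]) [P.IsPrime] : rdim R P ≤ 1 := by
  let p := P.under R
  haveI : IsDomain (R ⧸ p) := Ideal.Quotient.isDomain p
  let g : (R ⧸ p)[X] →ₐ[R ⧸ p] R[X] ⧸ P := aeval (Ideal.Quotient.mk P Polynomial.X)
  have hg : Function.Surjective g := by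
    intro y
    obtain ⟨y, rfl⟩ := Ideal.Quotient.mk_surjective y
    refine ⟨y.map (Ideal.Quotient.mk p), ?_⟩
    have h : g.toRingHom.comp (Polynomial.mapRingHom (Ideal.Quotient.mk p)) = Ideal.Quotient.mk P := by
      refine Polynomial.ringHom_ext (fun c => ?_) ?_
      · simp only [RingHom.comp_apply, Polynomial.coe_mapRingHom, Polynomial.map_C, AlgHom.toRingHom_eq_coe,
          RingHom.coe_coe, g, aeval_C]
        rfl
      · simp [g]
    exact congr($h y)
  have h1 := lift_trdeg_le_of_surjective g hg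
  rw [Polynomial.trdeg_of_isDomain, ← natCast_rdim (A := R) P] at h1
  simpa using h1

theorem rdim_le_of_fiber {A : Type u} [CommRing A] [Algebra A S] [Algebra.FiniteType A S] {d : ℕ}
    (h : ∀ P : PrimeSpectrum A, ringKrullDim (P.asIdeal.Fiber S) ≤ d) :
    ∀ (q : PrimeSpectrum S) (l : LTSeries (PrimeSpectrum S)),
      (∀ i, comap (algebraMap A S) (l i) = comap (algebraMap A S) q) → l.length ≤ d := by
  intro q l hl
  let o := PrimeSpectrum.preimageOrderIsoFiber A S (comap (algebraMap A S) q)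
  let l' : LTSeries (PrimeSpectrum ((comap (algebraMap A S) q).asIdeal.Fiber S)) :=
    LTSeries.mk l.length (fun i => o ⟨l i, hl i⟩) fun i j hij => o.strictMono (l.strictMono hij)
  have h1 : (l.length : WithBot ℕ∞) ≤ ringKrullDim ((comap (algebraMap A S) q).asIdeal.Fiber S) :=
    le_iSup (fun l : LTSeries (PrimeSpectrum ((comap (algebraMap A S) q).asIdeal.Fiber S)) =>
      (l.length : WithBot ℕ∞)) l'
  exact_mod_cast h1.trans (h _)

variable [Algebra.FiniteType R S]

/-- Local relations at a prime. -/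
structure Chart (a b : S) (d : ℕ) where
  t : ULift.{u} (Fin d) → S
  r : S
  G : Polynomial (MvPolynomial (ULift.{u} (Fin d)) R[X])
  Q : Polynomial (MvPolynomial (ULift.{u} (Fin d)) R[X])
  m : ℕ
  M : ℕ
  alg : ∀ y : S, ∃ k : ℕ, letI := ((MvPolynomial.eval₂Hom (Polynomial.aeval a : R[X] →ₐ[R] S).toRingHom t)).toAlgebra
    IsIntegral (MvPolynomial (ULift.{u} (Fin d)) R[X]) (r ^ k * y)
  hG : G.Monic
  hQ : Q.Monic
  hGr : G.eval₂ (MvPolynomial.eval₂Hom (Polynomial.aeval a : R[X] →ₐ[R] S).toRingHom t) r = 0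
  hQr : Q.eval₂ (MvPolynomial.eval₂Hom (Polynomial.aeval a : R[X] →ₐ[R] S).toRingHom t) (r ^ m * b) = 0
  hGM : ∀ i s, ((G.coeff i).coeff s).natDegree ≤ M
  hQM : ∀ i s, ((Q.coeff i).coeff s).natDegree ≤ M

theorem exists_chart (a b : S) (d : ℕ)
    (ha : letI := (Polynomial.aeval (R := R) a).toRingHom.toAlgebra
      ∀ P : PrimeSpectrum R[X], ringKrullDim (P.asIdeal.Fiber S) ≤ d) (q : PrimeSpectrum S) :
    ∃ C : Chart (R := R) a b d, C.r ∉ q.asIdeal := by
  classical
  letI := (Polynomial.aeval (R := R) a).toRingHom.toAlgebra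
  haveI : IsScalarTower R R[X] S :=
    IsScalarTower.of_algebraMap_eq fun c => ((Polynomial.aeval (R := R) a).commutes c).symm
  haveI : Algebra.FiniteType R[X] S := Algebra.FiniteType.of_restrictScalars_finiteType R R[X] S
  obtain ⟨t, ht⟩ := exists_quasiFiniteAt_aeval (A := R[X]) q (e := d) (rdim_le_of_fiber ha q)
  letI := (MvPolynomial.aeval (R := R[X]) t).toRingHom.toAlgebra
  haveI : IsScalarTower R[X] (MvPolynomial (ULift.{u} (Fin d)) R[X]) S :=
    IsScalarTower.of_algebraMap_eq fun c => ((MvPolynomial.aeval (R := R[X]) t).commutes c).symm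
  haveI : Algebra.FiniteType (MvPolynomial (ULift.{u} (Fin d)) R[X]) S :=
    Algebra.FiniteType.of_restrictScalars_finiteType R[X] _ S
  haveI := ht
  obtain ⟨r, hr, ⟨G, hG, hGr⟩, hall⟩ := Algebra.zariskisMainProperty_iff.mp
    (Algebra.ZariskisMainProperty.of_finiteType (R := MvPolynomial (ULift.{u} (Fin d)) R[X]) q.asIdeal)
  obtain ⟨m, Q, hQ, hQr⟩ := hall b
  let bd : Polynomial (MvPolynomial (ULift.{u} (Fin d)) R[X]) → ℕ := fun F =>
    F.support.sup fun i => (F.coeff i).support.sup fun s => ((F.coeff i).coeff s).natDegree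
  have hbd : ∀ F i s, ((F.coeff i).coeff s).natDegree ≤ bd F := by
    intro F i s
    by_cases h : ((F.coeff i).coeff s) = 0
    · simp [h]
    · exact le_trans (Finset.le_sup (f := fun s => ((F.coeff i).coeff s).natDegree) (MvPolynomial.mem_support_iff.2 h))
        (Finset.le_sup (f := fun i => (F.coeff i).support.sup fun s => ((F.coeff i).coeff s).natDegree)
          (Polynomial.mem_support_iff.2 fun h0 => h (by simp [h0])))
  exact ⟨⟨t, r, G, Q, m, max (bd G) (bd Q), hall, hG, hQ, hGr, hQr, fun i s => (hbd G i s).trans (le_max_left _ _),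
    fun i s => (hbd Q i s).trans (le_max_right _ _)⟩, hr⟩

/-- The main step at one prime. -/
theorem rdim_le {a b : S} {d : ℕ}
    (ha : letI := (Polynomial.aeval (R := R) a).toRingHom.toAlgebra
      ∀ P : PrimeSpectrum R[X], ringKrullDim (P.asIdeal.Fiber S) ≤ d)
    (q : PrimeSpectrum S) (C : Chart (R := R) a b d) (hr : C.r ∉ q.asIdeal) {n : ℕ} (hn : C.M + C.m * C.M < n) :
    letI := (Polynomial.aeval (R := R) (a ^ n + b)).toRingHom.toAlgebra
    rdim R[X] q.asIdeal ≤ d := by
  classical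
  have hdim : rdim R q.asIdeal ≤ d + 1 := by
    letI := (Polynomial.aeval (R := R) a).toRingHom.toAlgebra
    haveI : IsScalarTower R R[X] S :=
      IsScalarTower.of_algebraMap_eq fun c => ((Polynomial.aeval (R := R) a).commutes c).symm
    haveI : Algebra.FiniteType R[X] S := Algebra.FiniteType.of_restrictScalars_finiteType R R[X] S
    have h1 : rdim R[X] q.asIdeal ≤ d :=
      rdim_le_of_chains q q le_rfl (g := 1) (fun h => q.2.ne_top ((Ideal.eq_top_iff_one _).2 h)) fun l hl =>
        rdim_le_of_fiber ha q l fun i => (hl i).1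
    have h2 := FlatDim.rdim_add (K := R) (A := R[X]) q.asIdeal
    have h3 := rdim_polynomial_le_one (R := R) (q.asIdeal.under R[X])
    omega
  let z := a ^ n + b
  letI := (Polynomial.aeval (R := R) z).toRingHom.toAlgebra
  haveI : IsScalarTower R R[X] S :=
    IsScalarTower.of_algebraMap_eq fun c => ((Polynomial.aeval (R := R) z).commutes c).symm
  haveI : Algebra.FiniteType R[X] S := Algebra.FiniteType.of_restrictScalars_finiteType R R[X] S
  by_contra! hcon
  have hadd := FlatDim.rdim_add (K := R) (A := R[X]) q.asIdeal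
  have hd1 : rdim R q.asIdeal = d + 1 := by omega
  have hd0 : rdim R (q.asIdeal.under R[X]) = 0 := by omega
  -- rings and fields
  let p := q.asIdeal.under R
  haveI : IsDomain (R ⧸ p) := Ideal.Quotient.isDomain p
  haveI : IsDomain (S ⧸ q.asIdeal) := Ideal.Quotient.isDomain q.asIdeal
  let L := FractionRing (S ⧸ q.asIdeal)
  let π : S →+* L := (algebraMap (S ⧸ q.asIdeal) L).comp (Ideal.Quotient.mk q.asIdeal)
  have hAD : Function.Injective (algebraMap (R ⧸ p) (S ⧸ q.asIdeal)) := algebraMap_injective_quotient_under q.asIdeal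
  have hAL : Function.Injective (algebraMap (R ⧸ p) L) := by
    rw [IsScalarTower.algebraMap_eq (R ⧸ p) (S ⧸ q.asIdeal) L]
    exact (IsFractionRing.injective (S ⧸ q.asIdeal) L).comp hAD
  have hθ : ((algebraMap (R ⧸ p) L).comp (Ideal.Quotient.mk p)) = π.comp (algebraMap R S) := by
    rw [IsScalarTower.algebraMap_eq (R ⧸ p) (S ⧸ q.asIdeal) L]
    rfl
  let ev : MvPolynomial (ULift.{u} (Fin d)) R[X] →+* S :=
    MvPolynomial.eval₂Hom (Polynomial.aeval a : R[X] →ₐ[R] S).toRingHom C.t
  let t' : ULift.{u} (Fin d) → L := fun i => π (C.t i)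
  have hsm : ∀ (w : MvPolynomial (ULift.{u} (Fin d)) R[X]) {M : ℕ}, (∀ s, (w.coeff s).natDegree ≤ M) →
      ∃ f : (Algebra.adjoin (R ⧸ p) (Set.range t'))[X], f.natDegree ≤ M ∧ π (ev w) = aeval (π a) f := fun w M hw =>
    exists_small_aeval (π.comp (algebraMap R S)) (Ideal.Quotient.mk p) hθ t' (π a) (π.comp ev)
      (fun c => by simp [ev]) (by simp [ev]) (fun i => by simp [ev, t']) w hw
  -- the basis
  let v : Option (ULift.{u} (Fin d)) → L := fun o => o.elim (π a) t'
  have hL : Algebra.trdeg (R ⧸ p) L = ((d + 1 : ℕ) : Cardinal.{u}) := by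
    rw [← PruferDim.trdeg_eq_of_injective (IsScalarTower.toAlgHom (R ⧸ p) (S ⧸ q.asIdeal) L)
      (IsFractionRing.injective (S ⧸ q.asIdeal) L) hAD, ← natCast_rdim (A := R) q.asIdeal, hd1]
    intro y
    obtain ⟨⟨e, s⟩, hy⟩ := IsLocalization.surj (nonZeroDivisors (S ⧸ q.asIdeal)) y
    exact ⟨s, nonZeroDivisors.ne_zero s.2, e, by rw [mul_comm]; exact hy⟩
  let W := Algebra.adjoin (R ⧸ p) (Set.range v)
  have hevW : ∀ w, π (ev w) ∈ W := by
    intro w
    obtain ⟨M, hM⟩ : ∃ M, ∀ s, (w.coeff s).natDegree ≤ M := ⟨w.support.sup fun s => (w.coeff s).natDegree, fun s => by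
      by_cases h : w.coeff s = 0
      · simp [h]
      · exact Finset.le_sup (f := fun s => (w.coeff s).natDegree) (MvPolynomial.mem_support_iff.2 h)⟩
    obtain ⟨f, -, hf⟩ := hsm w hM
    rw [hf, aeval_eq_sum_range]
    refine Subalgebra.sum_mem _ fun i _ => ?_
    rw [Algebra.smul_def]
    refine mul_mem (Algebra.adjoin_mono ?_ (f.coeff i).2) (pow_mem (Algebra.subset_adjoin (Set.mem_range.2 ⟨none, rfl⟩)) _)
    rintro _ ⟨i, rfl⟩
    exact ⟨some i, rfl⟩
  have hrne : π C.r ≠ 0 := fun h => hr (Ideal.Quotient.eq_zero_iff_mem.1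
    ((map_eq_zero_iff _ (IsFractionRing.injective (S ⧸ q.asIdeal) L)).1 h))
  haveI : Algebra.IsAlgebraic W L := by
    have hD : ∀ y : S, IsAlgebraic W (π y) := by
      intro y
      let φ : MvPolynomial (ULift.{u} (Fin d)) R[X] →+* W := RingHom.codRestrict (π.comp ev) W hevW
      letI := ev.toAlgebra
      have hint : ∀ u : S, IsIntegral (MvPolynomial (ULift.{u} (Fin d)) R[X]) u → IsIntegral W (π u) := fun u hu =>
        IsIntegral.map_of_comp_eq φ π (RingHom.ext fun w => rfl) hu
      obtain ⟨k, hk⟩ := C.alg y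
      have h1 : IsIntegral W (π C.r) := hint _ ⟨C.G, C.hG, C.hGr⟩
      have h2 := hint _ hk
      rw [map_mul, map_pow] at h2
      exact IsAlgebraic.of_mul (y := π C.r ^ k) (mem_nonZeroDivisors_of_ne_zero (pow_ne_zero k hrne))
        (h1.pow k).isAlgebraic h2.isAlgebraic
    refine ⟨fun y => ?_⟩
    obtain ⟨⟨e, s⟩, hy⟩ := IsLocalization.surj (nonZeroDivisors (S ⧸ q.asIdeal)) y
    obtain ⟨e, rfl⟩ := Ideal.Quotient.mk_surjective e
    obtain ⟨s', hs'⟩ := Ideal.Quotient.mk_surjective (s : S ⧸ q.asIdeal)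
    have hs : π s' ≠ 0 := by
      show algebraMap (S ⧸ q.asIdeal) L (Ideal.Quotient.mk _ s') ≠ 0
      rw [hs', ne_eq, map_eq_zero_iff _ (IsFractionRing.injective (S ⧸ q.asIdeal) L)]
      exact nonZeroDivisors.ne_zero s.2
    refine IsAlgebraic.of_mul (y := π s') (mem_nonZeroDivisors_of_ne_zero hs) (hD s') ?_
    rw [show π s' * y = π e by
      show algebraMap (S ⧸ q.asIdeal) L (Ideal.Quotient.mk _ s') * y = _
      rw [hs', mul_comm]; exact hy]
    exact hD e
  haveI : FaithfulSMul (R ⧸ p) L := (faithfulSMul_iff_algebraMap_injective _ _).2 hAL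
  have hbasis := Algebra.IsAlgebraic.isTranscendenceBasis_of_le_trdeg_of_finite (R ⧸ p) v (by simp [hL])
  -- `z` is algebraic
  haveI : IsDomain (R[X] ⧸ q.asIdeal.under R[X]) := Ideal.Quotient.isDomain _
  have hp' : (q.asIdeal.under R[X]).under R = p := Ideal.under_under (A := R) (B := R[X]) q.asIdeal
  have hzalg : IsAlgebraic (R ⧸ p) (π z) := by
    haveI : (q.asIdeal.under R[X]).LiesOver p := ⟨hp'.symm⟩
    have hcast : ∀ p' : Ideal R, ∀ [(q.asIdeal.under R[X]).LiesOver p'],
        (rdim R (q.asIdeal.under R[X]) : Cardinal.{u}) = Algebra.trdeg (R ⧸ p') (R[X] ⧸ q.asIdeal.under R[X]) := fun p' h => by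
      obtain rfl := Ideal.over_def (q.asIdeal.under R[X]) p'
      exact natCast_rdim _
    have h0 := hcast p
    rw [hd0, Nat.cast_zero] at h0
    haveI : FaithfulSMul (R ⧸ p) (R[X] ⧸ q.asIdeal.under R[X]) :=
      (faithfulSMul_iff_algebraMap_injective _ _).2 fun u v huv => hAD (by
        obtain ⟨u, rfl⟩ := Ideal.Quotient.mk_surjective u
        obtain ⟨v, rfl⟩ := Ideal.Quotient.mk_surjective v
        change Ideal.Quotient.mk _ (algebraMap R R[X] u) = Ideal.Quotient.mk _ (algebraMap R R[X] v) at huv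
        rw [Ideal.Quotient.eq, ← map_sub] at huv
        change Ideal.Quotient.mk q.asIdeal (algebraMap R S u) = Ideal.Quotient.mk q.asIdeal (algebraMap R S v)
        rw [Ideal.Quotient.eq, ← map_sub, IsScalarTower.algebraMap_apply R R[X] S]
        exact huv)
    have halg : Algebra.IsAlgebraic (R ⧸ p) (R[X] ⧸ q.asIdeal.under R[X]) := trdeg_eq_zero_iff.1 h0.symm
    let j : (R[X] ⧸ q.asIdeal.under R[X]) →ₐ[R ⧸ p] L :=
      { (algebraMap (S ⧸ q.asIdeal) L).comp (algebraMap (R[X] ⧸ q.asIdeal.under R[X]) (S ⧸ q.asIdeal)) with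
        commutes' := fun u => by
          obtain ⟨u, rfl⟩ := Ideal.Quotient.mk_surjective u
          show algebraMap (S ⧸ q.asIdeal) L (Ideal.Quotient.mk _ (algebraMap R[X] S (algebraMap R R[X] u))) = _
          rw [← IsScalarTower.algebraMap_apply, IsScalarTower.algebraMap_apply (R ⧸ p) (S ⧸ q.asIdeal) L]
          rfl }
    have hjX : j (Ideal.Quotient.mk _ Polynomial.X) = π z := by
      show π (Polynomial.aeval z Polynomial.X) = π z
      rw [aeval_X]
    exact hjX ▸ (halg.1 _).algHom j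
  refine transcendental_of_large hAL (x := π a) (b := π b) (g := π C.r) (β := π (C.r ^ C.m * b)) t' hbasis.1
    (C.G.map (π.comp ev)) (C.Q.map (π.comp ev)) hrne (C.hG.map _) (C.hQ.map _) ?_ ?_ (m := C.m) (M := C.M) (n := n)
    (by rw [map_mul, map_pow]) (fun i => ?_) (fun i => ?_) hn (by rwa [← map_pow, ← map_add])
  · rw [eval_map, ← hom_eval₂, C.hGr, map_zero]
  · rw [eval_map, ← hom_eval₂, C.hQr, map_zero]
  · rw [coeff_map]; exact hsm _ (C.hGM i)
  · rw [coeff_map]; exact hsm _ (C.hQM i)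

/-- The perturbation theorem. -/
theorem exists_bound (d : ℕ) (a b : S)
    (ha : ∀ P : PrimeSpectrum R[X], letI := (Polynomial.aeval (R := R) a).toRingHom.toAlgebra
      ringKrullDim (P.asIdeal.Fiber S) ≤ d) :
    ∃ n₀ : ℕ, ∀ n ≥ n₀, ∀ P : PrimeSpectrum R[X], letI := (Polynomial.aeval (R := R) (a ^ n + b)).toRingHom.toAlgebra
      ringKrullDim (P.asIdeal.Fiber S) ≤ d := by
  classical
  choose C hC using exists_chart (R := R) a b d ha
  obtain ⟨F, hF⟩ := isCompact_univ.elim_finite_subcover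
    (fun q => (PrimeSpectrum.basicOpen (C q).r : Set (PrimeSpectrum S))) (fun q => (PrimeSpectrum.basicOpen (C q).r).2)
    fun q _ => Set.mem_iUnion.2 ⟨q, hC q⟩
  refine ⟨F.sup (fun q => (C q).M + (C q).m * (C q).M) + 1, fun n hn P => ?_⟩
  letI := (Polynomial.aeval (R := R) (a ^ n + b)).toRingHom.toAlgebra
  haveI : IsScalarTower R R[X] S :=
    IsScalarTower.of_algebraMap_eq fun c => ((Polynomial.aeval (R := R) (a ^ n + b)).commutes c).symm
  haveI : Algebra.FiniteType R[X] S := Algebra.FiniteType.of_restrictScalars_finiteType R R[X] S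
  refine iSup_le fun l => ?_
  suffices h : l.length ≤ d by exact_mod_cast h
  refine length_le_of_fiber P (fun l hl => ?_) l
  obtain ⟨q₀, hq₀, hr⟩ : ∃ q₀ ∈ F, (C q₀).r ∉ (l 0).asIdeal := by
    obtain ⟨q₀, hq₀, h⟩ := Set.mem_iUnion₂.1 (hF (Set.mem_univ (l 0)))
    exact ⟨q₀, hq₀, h⟩
  refine (length_le_rdim (l 0) l (fun i => (hl i).trans (hl 0).symm) le_rfl).trans ?_
  exact rdim_le ha (l 0) (C q₀) hr (lt_of_lt_of_le (Nat.lt_succ_of_le
    (Finset.le_sup (f := fun q => (C q).M + (C q).m * (C q).M) hq₀)) hn)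

end Groth.Agent.PowPert
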